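import Groth.Agent.UnivInjFib.Basic
import Mathlib.RingTheory.HopkinsLevitzki
import Mathlib.RingTheory.LocalRing.Module
import Mathlib.RingTheory.LocalRing.ResidueField.Ideal

/-!
# Iterated equalizers of a finite injective algebra
-/

universe u

open TensorProduct

namespace Groth.Agent.CAlgEffEpi

variable {A B : Type u} [CommRing A] [CommRing B] [Algebra A B]

/-- A finitely generated algebra element calculus: if all elements are equalized up to units at `p`,
the algebra is `A` at `p`. -/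
theorem exists_smul_mem_bot (C : Subalgebra A B) [Module.Finite A C] (p : Ideal A) [p.IsPrime]
    (h : ∀ c : C, ∃ s ∉ p, s • (c ⊗ₜ[A] (1 : C)) = s • ((1 : C) ⊗ₜ[A] c)) :
    ∃ a ∉ p, ∀ c ∈ C, a • c ∈ (⊥ : Subalgebra A B) := by
  let K := p.ResidueField
  let D := K ⊗[A] C
  let i : C →ₐ[A] D := Algebra.TensorProduct.includeRight
  let j₁ : C →ₐ[A] D ⊗[K] D :=
    ((Algebra.TensorProduct.includeLeft : D →ₐ[K] D ⊗[K] D).restrictScalars A).comp i
  let j₂ : C →ₐ[A] D ⊗[K] D :=
    ((Algebra.TensorProduct.includeRight : D →ₐ[K] D ⊗[K] D).restrictScalars A).comp i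
  let Φ : C ⊗[A] C →ₐ[A] D ⊗[K] D := Algebra.TensorProduct.lift j₁ j₂ fun x y => mul_comm (j₁ x) (j₂ y)
  have heq : ∀ c : C, ((1 : K) ⊗ₜ[A] c : D) ⊗ₜ[K] (1 : D) = (1 : D) ⊗ₜ[K] ((1 : K) ⊗ₜ[A] c : D) := fun c => by
    obtain ⟨s, hs, hsc⟩ := h c
    have h1 := congrArg Φ hsc
    rw [map_smul, map_smul, ← algebraMap_smul K s, ← algebraMap_smul K s] at h1
    have hu : IsUnit (algebraMap A K s) := isUnit_iff_ne_zero.2 fun e =>
      hs (Ideal.algebraMap_residueField_eq_zero.1 e)
    have h2 := hu.smul_left_cancel.1 h1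
    simpa [Φ, j₁, j₂, i, Algebra.TensorProduct.includeRight_apply] using! h2
  have hall : ∀ d : D, ∃ r : K, r • (1 : D) = d := by
    intro d
    by_contra hd
    have hmem : d ∉ Submodule.span K ({1} : Set D) := fun hmem => hd (Submodule.mem_span_singleton.1 hmem)
    obtain ⟨f, hfd, hf⟩ := Submodule.exists_dual_map_eq_bot_of_notMem hmem inferInstance
    have hf1 : f 1 = 0 := by
      have := Submodule.mem_map_of_mem (f := f) (Submodule.mem_span_singleton_self (1 : D))
      rwa [hf, Submodule.mem_bot] at this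
    have hcomm : d ⊗ₜ[K] (1 : D) = (1 : D) ⊗ₜ[K] d := by
      clear hd hmem hfd
      induction d using TensorProduct.induction_on with
      | zero => simp
      | tmul r c =>
        have : (r ⊗ₜ[A] c : D) = r • ((1 : K) ⊗ₜ[A] c : D) := by rw [smul_tmul', smul_eq_mul, mul_one]
        rw [this, ← smul_tmul', heq, tmul_smul]
      | add x y hx hy => rw [add_tmul, tmul_add, hx, hy]
    have h3 := congrArg (fun z => TensorProduct.lid K D (f.rTensor D z)) hcomm
    simp only [LinearMap.rTensor_tmul, TensorProduct.lid_tmul, hf1, zero_smul] at h3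
    have h4 : (1 : D) = 0 := ((isUnit_iff_ne_zero.2 hfd).smul_eq_zero).1 h3
    exact hd ⟨0, by rw [zero_smul]; exact (subsingleton_of_zero_eq_one h4.symm).elim 0 d⟩
  let U : Submodule A C := LinearMap.range (Algebra.linearMap A C)
  have hsub : ¬ Nontrivial (p.ResidueField ⊗[A] (C ⧸ U)) := by
    rw [not_nontrivial_iff_subsingleton]
    refine subsingleton_of_forall_eq 0 fun z => ?_
    obtain ⟨z, rfl⟩ := LinearMap.lTensor_surjective K U.mkQ_surjective z
    obtain ⟨r, rfl⟩ := hall z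
    show U.mkQ.lTensor K (r • ((1 : K) ⊗ₜ[A] (1 : C))) = 0
    rw [smul_tmul', LinearMap.lTensor_tmul, Submodule.mkQ_apply,
      (Submodule.Quotient.mk_eq_zero U).2 (⟨1, (Algebra.linearMap_apply A C 1).trans (map_one _)⟩ : (1 : C) ∈ U), tmul_zero]
  haveI : Module.Finite A (C ⧸ U) := inferInstance
  rw [← Module.mem_support_iff_nontrivial_residueField_tensorProduct ⟨p, inferInstance⟩,
    Module.support_eq_zeroLocus, PrimeSpectrum.mem_zeroLocus, Set.not_subset] at hsub
  obtain ⟨a, ha, hap⟩ := hsub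
  refine ⟨a, hap, fun c hc => ?_⟩
  have h5 := Module.mem_annihilator.1 ha (U.mkQ ⟨c, hc⟩)
  rw [← map_smul, Submodule.mkQ_apply, Submodule.Quotient.mk_eq_zero] at h5
  obtain ⟨b, hb⟩ := h5
  exact Algebra.mem_bot.2 ⟨b, congrArg Subtype.val hb⟩

theorem stabilize [IsNoetherianRing A] [Module.Finite A B]
    (C : ℕ → Subalgebra A B)
    (hstep : ∀ (i : ℕ) (b : B), b ∈ C (i + 1) ↔ ∃ hb : b ∈ C i,
      ((⟨b, hb⟩ : C i) ⊗ₜ[A] (1 : C i) : C i ⊗[A] C i) = (1 : C i) ⊗ₜ[A] (⟨b, hb⟩ : C i)) :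
    ∃ m : ℕ, C m = ⊥ := by
  have hdec : Antitone C := antitone_nat_of_succ_le fun i b hb => ((hstep i b).1 hb).1
  let A₁ : Submodule A B := LinearMap.range (Algebra.linearMap A B)
  have hA₁ : ∀ i, A₁ ≤ (C i).toSubmodule := fun i => by
    rintro _ ⟨a, rfl⟩
    exact (C i).algebraMap_mem a
  let J : ℕ →o Ideal A :=
    { toFun := fun i =>
        { carrier := {a | ∀ c ∈ C i, a • c ∈ A₁}
          add_mem' := fun ha hb c hc => by rw [add_smul]; exact add_mem (ha c hc) (hb c hc)
          zero_mem' := fun c _ => by rw [zero_smul]; exact zero_mem _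
          smul_mem' := fun r a ha c hc => by rw [smul_eq_mul, mul_smul]; exact A₁.smul_mem r (ha c hc) }
      monotone' := fun i j hij a ha c hc => ha c (hdec hij hc) }
  obtain ⟨i₀, hi₀⟩ := monotone_stabilizes_iff_noetherian.2 (inferInstance : IsNoetherian A A) J
  by_cases htop : J i₀ = ⊤
  · refine ⟨i₀, eq_bot_iff.2 fun c hc => ?_⟩
    obtain ⟨a, ha⟩ := (show (1 : A) ∈ J i₀ from htop ▸ trivial) c hc
    exact Algebra.mem_bot.2 ⟨a, by rw [← one_smul A c]; exact ha⟩
  exfalso
  obtain ⟨p, hp⟩ := Ideal.nonempty_minimalPrimes htop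
  haveI := hp.1.1
  -- a power of `p` lies in `J i₀` up to units
  obtain ⟨n, hn⟩ : ∃ n : ℕ, ∀ x ∈ p ^ n, ∃ s ∉ p, s * x ∈ J i₀ := by
    let J' : Ideal A :=
      { carrier := {x | ∃ s ∉ p, s * x ∈ J i₀}
        add_mem' := by
          rintro x y ⟨s, hs, hx⟩ ⟨t, ht, hy⟩
          exact ⟨s * t, fun h => (hp.1.1.mem_or_mem h).elim hs ht, by
            rw [mul_add]
            exact add_mem (by rw [mul_comm s t, mul_assoc]; exact Ideal.mul_mem_left _ t hx)
              (by rw [mul_assoc]; exact Ideal.mul_mem_left _ s hy)⟩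
        zero_mem' := ⟨1, fun h => hp.1.1.ne_top ((Ideal.eq_top_iff_one _).2 h), by simp⟩
        smul_mem' := by
          rintro r x ⟨s, hs, hx⟩
          exact ⟨s, hs, by rw [smul_eq_mul, mul_left_comm]; exact Ideal.mul_mem_left _ r hx⟩ }
    have hle : p ≤ J'.radical := fun a ha => by
      obtain ⟨s, hs, c, hc⟩ := UnivInjFib.exists_mul_pow_mem p hp ha
      exact ⟨c, s, hs, hc⟩
    obtain ⟨n, hn⟩ := Ideal.exists_radical_pow_le_of_fg J' (IsNoetherian.noetherian _)
    exact ⟨n, fun x hx => hn (Ideal.pow_right_mono hle n hx)⟩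
  -- the localized tail has finite length
  let Q := (C i₀).toSubmodule ⧸ A₁.comap (C i₀).toSubmodule.subtype
  let Rp := Localization.AtPrime p
  let L := LocalizedModule p.primeCompl Q
  let I : Ideal Rp := IsLocalRing.maximalIdeal Rp ^ (n + 1)
  have hI : ∀ (r : I) (x : L), r.1 • x = 0 := by
    have hle : I ≤ Module.annihilator Rp L := by
      refine (Ideal.pow_le_pow_right (Nat.le_succ n)).trans ?_
      rw [← Localization.AtPrime.map_eq_maximalIdeal, ← Ideal.map_pow, Ideal.map_le_iff_le_comap]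
      intro a ha
      obtain ⟨s, hs, hsa⟩ := hn a ha
      rw [Ideal.mem_comap, Module.mem_annihilator]
      intro x
      induction x using LocalizedModule.induction_on with
      | h m t =>
        rw [algebraMap_smul, LocalizedModule.smul'_mk]
        rw [show (0 : L) = LocalizedModule.mk 0 t from (LocalizedModule.zero_mk t).symm, LocalizedModule.mk_eq]
        refine ⟨⟨s, hs⟩, ?_⟩
        obtain ⟨m, rfl⟩ := Submodule.mkQ_surjective _ m
        rw [smul_zero, smul_zero]
        simp only [Submonoid.smul_def]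
        rw [smul_comm (t : A), smul_smul s, smul_smul, mul_comm, ← map_smul, Submodule.mkQ_apply,
          Submodule.Quotient.mk_eq_zero]
        show ((t : A) * (s * a)) • (m : B) ∈ A₁
        rw [mul_smul]
        exact A₁.smul_mem _ (hsa m.1 m.2)
    exact fun r x => Module.mem_annihilator.1 (hle r.2) x
  letI : Module (Rp ⧸ I) L := Module.IsTorsionBySet.module (I := I) fun x r => hI r x
  haveI : IsScalarTower Rp (Rp ⧸ I) L := IsScalarTower.of_algebraMap_smul fun r x => rfl
  haveI : Module.Finite A Q := inferInstance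
  haveI : Module.Finite Rp L := Module.Finite.of_isLocalizedModule p.primeCompl (LocalizedModule.mkLinearMap p.primeCompl Q)
  haveI : Module.Finite (Rp ⧸ I) L := Module.Finite.of_restrictScalars_finite Rp _ _
  haveI : Nontrivial (Rp ⧸ I) := Ideal.Quotient.nontrivial_iff.2 fun e =>
    (IsLocalRing.maximalIdeal.isMaximal Rp).ne_top (top_le_iff.1 (e ▸ Ideal.pow_le_self (Nat.succ_ne_zero n)))
  haveI : IsLocalRing (Rp ⧸ I) := IsLocalRing.of_surjective' (Ideal.Quotient.mk I) Ideal.Quotient.mk_surjective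
  haveI : IsArtinianRing (Rp ⧸ I) := by
    rw [isArtinianRing_iff_isNilpotent_maximalIdeal]
    refine ⟨n + 1, ?_⟩
    have hmax : (IsLocalRing.maximalIdeal Rp).map (Ideal.Quotient.mk I) = IsLocalRing.maximalIdeal (Rp ⧸ I) :=
      IsLocalRing.map_maximalIdeal_of_surjective _ Ideal.Quotient.mk_surjective
    rw [← hmax, ← Ideal.map_pow, Ideal.zero_eq_bot]
    exact Ideal.map_quotient_self I
  let Λ : (C i₀).toSubmodule →ₗ[A] L :=
    (LocalizedModule.mkLinearMap p.primeCompl Q).comp (Submodule.mkQ _)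
  let mkQ' : ∀ c : B, c ∈ C i₀ → L := fun c hc => Λ ⟨c, hc⟩
  let N : ℕ → Submodule (Rp ⧸ I) L := fun k =>
    { carrier := {x | ∃ s : p.primeCompl, ∃ c, ∃ hc : c ∈ C (i₀ + k), (s : A) • x = mkQ' c (hdec (Nat.le_add_right _ _) hc)}
      add_mem' := by
        rintro x y ⟨s, c, hc, hx⟩ ⟨t, d, hd, hy⟩
        refine ⟨s * t, (t : A) • c + (s : A) • d, add_mem ((C _).smul_mem hc _) ((C _).smul_mem hd _), ?_⟩
        rw [Submonoid.coe_mul, smul_add, mul_comm (s : A), mul_smul, hx, mul_comm (t : A), mul_smul, hy]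
        show (t : A) • Λ _ + (s : A) • Λ _ = Λ _
        rw [← map_smul, ← map_smul, ← map_add]
        rfl
      zero_mem' := ⟨1, 0, zero_mem _, by
        rw [smul_zero]
        exact (map_zero Λ).symm⟩
      smul_mem' := by
        rintro r x ⟨s, c, hc, hx⟩
        obtain ⟨r, rfl⟩ := Ideal.Quotient.mk_surjective r
        obtain ⟨a, t, rfl⟩ := IsLocalization.exists_mk'_eq p.primeCompl r
        refine ⟨t * s, a • c, (C _).smul_mem hc _, ?_⟩
        show ((t * s : p.primeCompl) : A) • (IsLocalization.mk' Rp a t • x) = _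
        rw [Submonoid.coe_mul, mul_smul, ← smul_comm (IsLocalization.mk' Rp a t) (s : A), hx, ← algebraMap_smul Rp (t : A),
          smul_smul, IsLocalization.mk'_spec', algebraMap_smul]
        show a • Λ _ = Λ _
        rw [← map_smul]
        rfl }
  have hN : Antitone N := fun k l hkl x ⟨s, c, hc, hx⟩ => ⟨s, c, hdec (Nat.add_le_add_left hkl i₀) hc, hx⟩
  obtain ⟨k, hk⟩ := IsArtinian.monotone_stabilizes (⟨fun k => OrderDual.toDual (N k), hN⟩ : ℕ →o (Submodule (Rp ⧸ I) L)ᵒᵈ)
  haveI : Module.Finite A (C (i₀ + k)) := Module.Finite.of_fg (IsNoetherian.noetherian (C (i₀ + k)).toSubmodule)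
  obtain ⟨a, hap, ha⟩ := exists_smul_mem_bot (C (i₀ + k)) p fun c => by
    have hmem : mkQ' c.1 (hdec (Nat.le_add_right _ _) c.2) ∈ N (k + 1) := by
      have h6 : N k = N (k + 1) := hk (k + 1) (Nat.le_succ k)
      rw [← h6]
      exact ⟨1, c.1, c.2, one_smul A _⟩
    obtain ⟨s, d, hd, hsd⟩ := hmem
    change (s : A) • Λ _ = Λ _ at hsd
    rw [← map_smul] at hsd
    obtain ⟨u, hu⟩ := (IsLocalizedModule.eq_iff_exists p.primeCompl (LocalizedModule.mkLinearMap p.primeCompl Q)).1 hsd
    rw [Submonoid.smul_def, Submonoid.smul_def, ← map_smul, ← map_smul, Submodule.mkQ_apply,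
      Submodule.mkQ_apply, Submodule.Quotient.eq, Submodule.mem_comap] at hu
    refine ⟨u * s, fun h => (hp.1.1.mem_or_mem h).elim u.2 s.2, ?_⟩
    have h7 : ((u : A) * s) • c.1 ∈ C (i₀ + (k + 1)) := by
      have h8 := add_mem (hA₁ _ hu) ((C (i₀ + (k + 1))).smul_mem hd (u : A))
      simpa [mul_smul] using h8
    obtain ⟨hb, h9⟩ := (hstep (i₀ + k) _).1 h7
    rw [smul_tmul', ← tmul_smul]
    exact h9
  refine hap (hp.1.2 ?_)
  show a ∈ J i₀
  rw [hi₀ (i₀ + k) (Nat.le_add_right _ _)]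
  intro c hc
  exact Algebra.mem_bot.1 (ha c hc) |>.imp fun b hb => hb

end Groth.Agent.CAlgEffEpi
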